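import Groth.Agent.Lib.DescAlg.DDFam.FullFaithful
import Mathlib.AlgebraicGeometry.Morphisms.Flat

/-!
Pullback of descent data along refinements: fpqc covers.
-/

set_option autoImplicit false
set_option backward.isDefEq.respectTransparency false
set_option backward.isDefEq.respectTransparency.types false

universe u

open CategoryTheory CategoryTheory.Limits AlgebraicGeometry Desc

namespace Groth.Agent.Lib.DescAlg.DDFam.Cover

open Groth.Agent.Lib.DescAlg.DDFam.Basic Groth.Agent.Lib.DescAlg.DDFam.FullFaithful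

theorem isSheafFor_yoneda {X : Scheme.{u}} {R : Presieve X} (hR : R ∈ Scheme.fpqcPrecoverage X)
    (Z : Scheme.{u}) : R.IsSheafFor (yoneda.obj Z) := by
  rw [Presieve.isSheafFor_iff_generate]
  have h : Presieve.IsSheaf Scheme.fpqcTopology (yoneda.obj Z) :=
    GrothendieckTopology.Subcanonical.isSheaf_of_isRepresentable _
  exact h _ (Precoverage.generate_mem_toGrothendieck hR)

section cover

variable {ι ι' : Type u} {X : ι → Scheme.{u}} {X' : ι' → Scheme.{u}} {α : ι' → ι}
  {g : ∀ i, X' i ⟶ X (α i)}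
  (hcov : ∀ j, Presieve.ofArrows (fun i : {i // α i = j} => X' i.1)
      (fun i => g i.1 ≫ eqToHom (congrArg X i.2)) ∈ Scheme.fpqcPrecoverage (X j))

include hcov

theorem pullback_mem (j : ι) {Y : Scheme.{u}} (h : Y ⟶ X j) :
    Presieve.ofArrows (fun i : {i // α i = j} => pullback h (g i.1 ≫ eqToHom (congrArg X i.2)))
      (fun i => pullback.fst h (g i.1 ≫ eqToHom (congrArg X i.2))) ∈ Scheme.fpqcPrecoverage Y :=
  Precoverage.mem_coverings_of_isPullback _ (hcov j) h _ (fun _ ↦ pullback.snd _ _)
    fun _ ↦ IsPullback.of_hasPullback _ _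

theorem glue : Glue X g := by
  intro j Y h Z x hx
  obtain ⟨l, hl, -⟩ := (Presieve.isSheafFor_arrows_iff _ _).1
    (isSheafFor_yoneda (pullback_mem hcov j h) Z) (fun i ↦ x i.1 i.2) (fun i k T a b hab ↦
      hx i.1 i.2 k.1 k.2 a b hab)
  exact ⟨l, fun i e ↦ hl ⟨i, e⟩⟩

theorem jointlyEpi : JointlyEpi X g := by
  intro j Y h Z a b hab
  have hs := (Presieve.isSheafFor_arrows_iff _ _).1
    (isSheafFor_yoneda (pullback_mem hcov j h) Z)
    (fun i ↦ pullback.fst h (g i.1 ≫ eqToHom (congrArg X i.2)) ≫ a) (fun i k T c d hcd ↦ by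
      simp only [yoneda_obj_map, Quiver.Hom.unop_op]
      exact ((Category.assoc _ _ _).symm.trans (congrArg (· ≫ a) hcd)).trans (Category.assoc _ _ _))
  exact hs.unique (fun _ ↦ rfl) (fun i ↦ (hab _ i.1 i.2 _ pullback.condition).symm)

end cover

/-- A flat surjective morphism is universally epi. -/
theorem jointlyEpi_of_flat_surjective {Y X : Scheme.{u}} (g : Y ⟶ X) [Flat g] [Surjective g] :
    JointlyEpi (X := fun _ : PUnit.{u + 1} => X) (X' := fun _ : PUnit.{u + 1} => Y)
      (α := fun j => j) (fun _ => g) := by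
  intro j W h Z a b hab
  have := Flat.epi_of_flat_of_surjective (pullback.fst h g)
  refine (cancel_epi (pullback.fst h g)).1 (hab _ ⟨⟩ rfl (pullback.snd h g) ?_)
  simpa using pullback.condition

section refinement

variable {S : Scheme.{u}} {ι κ : Type u} {U : ι → Scheme.{u}} {V : κ → Scheme.{u}}
  {u : ∀ i, U i ⟶ S} {v : ∀ j, V j ⟶ S} {α : ι → κ} {g : ∀ i, U i ⟶ V (α i)}
  (w : ∀ i, g i ≫ v (α i) = u i ≫ 𝟙 S)

/-- The common refinement `U i ×_S V j`. -/
noncomputable abbrev uv (u : ∀ i, U i ⟶ S) (v : ∀ j, V j ⟶ S) (p : ι × κ) :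
    pullback (u p.1) (v p.2) ⟶ S := pullback.fst _ _ ≫ u p.1

theorem uv_fst (p : ι × κ) :
    pullback.fst (u p.1) (v p.2) ≫ u p.1 = uv u v p ≫ 𝟙 S := (Category.comp_id _).symm

theorem uv_snd (p : ι × κ) :
    pullback.snd (u p.1) (v p.2) ≫ v p.2 = uv u v p ≫ 𝟙 S := by
  rw [Category.comp_id, uv, pullback.condition]

include w in
theorem isEquivalence_uv_fst : (pullDDFam (f := u) (f' := uv u v) (α := Prod.fst) (p := 𝟙 S)
    (p' := fun p ↦ pullback.fst (u p.1) (v p.2)) uv_fst).IsEquivalence := by
  refine isEquivalence_of_back _ (β := fun i ↦ (i, α i))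
    (q' := fun i ↦ pullback.lift (𝟙 _) (g i) (by rw [Category.id_comp, w, Category.comp_id])) (fun i ↦ ?_)
  simp only [uv, pullback.lift_fst_assoc]
  exact (Category.id_comp _).trans (Category.comp_id _).symm

/-- Pullback along the refinement agrees with the detour through the common refinement. -/
noncomputable def detourIso : pullDDFam w ⋙ pullDDFam (f := u) (f' := uv u v) (α := Prod.fst)
    (p := 𝟙 S) (p' := fun p ↦ pullback.fst (u p.1) (v p.2)) uv_fst ≅
    pullDDFam (f := v) (f' := uv u v) (α := Prod.snd) (p := 𝟙 S)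
      (p' := fun p ↦ pullback.snd (u p.1) (v p.2)) uv_snd :=
  compIso w uv_fst ≪≫ homotopyIso _ _ (by simp)

theorem faithful_of_jointlyEpi
    (h : JointlyEpi (X' := fun p : ι × κ ↦ pullback (u p.1) (v p.2)) (α := Prod.snd) V
      (fun p ↦ pullback.snd (u p.1) (v p.2))) :
    (pullDDFam w).Faithful := by
  have := FullFaithful.faithful (f := v) (f' := uv u v) uv_snd h
  exact Functor.Faithful.of_comp_iso (detourIso w)

theorem uv_cover (hu : Presieve.ofArrows U u ∈ Scheme.fpqcPrecoverage S) (j : κ) :
    Presieve.ofArrows (fun p : {p : ι × κ // p.2 = j} => pullback (u p.1.1) (v p.1.2))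
      (fun p => pullback.snd (u p.1.1) (v p.1.2) ≫ eqToHom (congrArg V p.2)) ∈
      Scheme.fpqcPrecoverage (V j) := by
  have h := Precoverage.mem_coverings_of_isPullback u hu (v j) (fun i ↦ pullback.snd (u i) (v j))
    (fun i ↦ pullback.fst (u i) (v j)) fun i ↦ (IsPullback.of_hasPullback (u i) (v j)).flip
  convert h using 1
  refine le_antisymm ?_ ?_
  · rintro _ _ ⟨⟨⟨i, j'⟩, e⟩⟩
    dsimp at e
    subst e
    simpa using Presieve.ofArrows.mk (f := fun i ↦ pullback.snd (u i) (v j')) i
  · rintro _ _ ⟨i⟩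
    simpa using Presieve.ofArrows.mk
      (f := fun p : {p : ι × κ // p.2 = j} =>
        pullback.snd (u p.1.1) (v p.1.2) ≫ eqToHom (congrArg V p.2)) ⟨(i, j), rfl⟩

/-- Pullback along a refinement by an fpqc cover of the base is fully faithful. -/
theorem fullFaithful (hu : Presieve.ofArrows U u ∈ Scheme.fpqcPrecoverage S) :
    (pullDDFam w).Full ∧ (pullDDFam w).Faithful := by
  have hc := uv_cover (v := v) hu
  have := FullFaithful.full (f := v) (f' := uv u v) uv_snd (jointlyEpi hc) (glue hc)
  have := isEquivalence_uv_fst w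
  exact ⟨Functor.Full.of_comp_faithful_iso (detourIso w), faithful_of_jointlyEpi w (jointlyEpi hc)⟩

end refinement

section canonical

variable {S : Scheme.{u}}

/-- Descent data for the identity of `S` are schemes over `S`. -/
def forgetId (S : Scheme.{u}) : SchDDFam (fun _ : PUnit.{u + 1} => 𝟙 S) ⥤ Over S where
  obj D := D.obj ⟨⟩
  map a := a.hom ⟨⟩

instance : (forgetId S).Faithful :=
  ⟨fun {_ _} _ _ h ↦ SchDDFam.hom_ext (funext fun _ ↦ h)⟩

/-- The canonical datum followed by the forgetful functor. -/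
noncomputable def toDDForgetIso (S : Scheme.{u}) :
    toDDFam (fun _ : PUnit.{u + 1} => 𝟙 S) ⋙ forgetId S ≅ 𝟭 (Over S) :=
  NatIso.ofComponents
    (fun U ↦ Over.isoMk (asIso (pullback.snd (𝟙 S) U.hom))
      (by simp [forgetId, toDDFam, canonicalDDFam, ← pullback.condition]))
    (fun g ↦ Over.OverMorphism.ext (by simp [forgetId, toDDFam, canonicalDDFam]))

theorem toDDId_full : (toDDFam (fun _ : PUnit.{u + 1} => 𝟙 S)).Full :=
  Functor.Full.of_comp_faithful_iso (toDDForgetIso S)

theorem toDDId_faithful : (toDDFam (fun _ : PUnit.{u + 1} => 𝟙 S)).Faithful :=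
  Functor.Faithful.of_comp_iso (toDDForgetIso S)

variable {ι : Type u} {X : ι → Scheme.{u}} (f : ∀ i, X i ⟶ S)

theorem id_w (i : ι) : f i ≫ 𝟙 S = f i ≫ 𝟙 S := rfl

/-- `toDDFam f` is pullback of the trivial datum. -/
noncomputable def toDDFamIso :
    toDDFam (fun _ : PUnit.{u + 1} => 𝟙 S) ⋙
      pullDDFam (f := fun _ : PUnit.{u + 1} => 𝟙 S) (f' := f) (α := fun _ ↦ PUnit.unit)
        (p := 𝟙 S) (p' := f) (id_w f) ≅ toDDFam f :=
  NatIso.ofComponents
    (fun U ↦ mkIso
      (fun i ↦ Over.isoMk
        { hom := pullback.lift (pullback.snd _ _) (pullback.fst _ _ ≫ pullback.snd (𝟙 S) U.hom)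
            (by
              have e : pullback.fst (𝟙 S) U.hom = pullback.snd (𝟙 S) U.hom ≫ U.hom := by
                simpa using pullback.condition (f := 𝟙 S) (g := U.hom)
              rw [← pullback.condition, Category.assoc, ← e]
              rfl)
          inv := pullback.lift
            (pullback.lift (pullback.fst _ _ ≫ f i) (pullback.snd (f i) U.hom)
              (by simp [pullback.condition])) (pullback.fst _ _) (pullback.lift_fst _ _ _)
          hom_inv_id := by
            apply pullback.hom_ext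
            · apply pullback.hom_ext
              · simp [pullDDFam, pullDDFamObj, toDDFam, canonicalDDFam, pullback.condition]
                refine (congrArg (pullback.fst _ _ ≫ ·) ?_).trans pullback.condition
                simpa using (pullback.condition (f := 𝟙 S) (g := U.hom)).symm
              · simp
            · simp
          inv_hom_id := by apply pullback.hom_ext <;> simp }
        (pullback.lift_fst _ _ _))
      (fun T i j x₀ x₁ hx v v' hv ↦ by
        simp only [Over.isoMk_hom_left] at hv ⊢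
        apply pullback.hom_ext
        · simp [toDDFam, canonicalDDFam, pullDDFam, pullDDFamObj, liftsPullbackEquiv]
        · simp [toDDFam, canonicalDDFam, pullDDFam, pullDDFamObj, liftsPullbackEquiv, hv]))
    (fun g ↦ by
      apply SchDDFam.hom_ext
      funext i
      apply Over.OverMorphism.ext
      apply pullback.hom_ext <;>
        simp [toDDFam, canonicalDDFam, pullDDFam, pullDDFamObj, mkIso])

/-- The canonical descent datum functor of an fpqc cover is fully faithful. -/
theorem toDDFam_fullFaithful (hf : Presieve.ofArrows X f ∈ Scheme.fpqcPrecoverage S) :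
    (toDDFam f).Full ∧ (toDDFam f).Faithful := by
  obtain ⟨h1, h2⟩ := fullFaithful (v := fun _ : PUnit.{u + 1} => 𝟙 S) (u := f) (id_w f) hf
  have := toDDId_full (S := S)
  have := toDDId_faithful (S := S)
  let P := pullDDFam (f := fun _ : PUnit.{u + 1} => 𝟙 S) (f' := f) (α := fun _ ↦ PUnit.unit)
      (p := 𝟙 S) (p' := f) (id_w f)
  have : P.Full := h1
  have : P.Faithful := h2
  let F := toDDFam (fun _ : PUnit.{u + 1} => 𝟙 S) ⋙ P
  have : F.Full := inferInstanceAs (_ ⋙ _).Full
  have : F.Faithful := inferInstanceAs (_ ⋙ _).Faithful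
  exact ⟨Functor.Full.of_iso (show F ≅ _ from toDDFamIso f),
    Functor.Faithful.of_iso (show F ≅ _ from toDDFamIso f)⟩

end canonical

end Groth.Agent.Lib.DescAlg.DDFam.Cover
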