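import Groth.Prelude.Def_DescFam

/-!
Functoriality of pullback of descent data of schemes relative to families of morphisms: composition,
independence of the morphism of families, equivalence in the presence of a backwards morphism.
-/

set_option autoImplicit false
set_option backward.isDefEq.respectTransparency false
set_option backward.isDefEq.respectTransparency.types false

universe w'' w' w u

open CategoryTheory CategoryTheory.Limits AlgebraicGeometry Desc

namespace Groth.Agent.Lib.DescAlg.DDFam.Basic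

variable {S : Scheme.{u}} {ι : Type w} {X : ι → Scheme.{u}} {f : ∀ i, X i ⟶ S}

/-- The bijections only depend on the underlying points. -/
theorem φ_congr (D : SchDDFam f) {T : Scheme.{u}} {i j : ι} {x₀ y₀ : T ⟶ X i} {x₁ y₁ : T ⟶ X j}
    (h : x₀ ≫ f i = x₁ ≫ f j) (h' : y₀ ≫ f i = y₁ ≫ f j) (e₀ : y₀ = x₀) (e₁ : y₁ = x₁)
    (v : Lifts (D.obj i) x₀) (v' : Lifts (D.obj i) y₀) (ev : v'.1 = v.1) :
    (D.φ y₀ y₁ h' v').1 = (D.φ x₀ x₁ h v).1 := by
  subst e₀ e₁
  rw [Subtype.ext ev]

/-- Naturality, with all composite points as separate variables. -/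
theorem comp_φ (D : SchDDFam f) {T T' : Scheme.{u}} (g : T' ⟶ T) {i j : ι} (x₀ : T ⟶ X i)
    (x₁ : T ⟶ X j) (h : x₀ ≫ f i = x₁ ≫ f j) (v : Lifts (D.obj i) x₀) :
    g ≫ (D.φ x₀ x₁ h v).1 = (D.φ (g ≫ x₀) (g ≫ x₁) (by simp [h])
      ⟨g ≫ v.1, by rw [Category.assoc, v.2]⟩).1 :=
  (D.φ_natural g x₀ x₁ h _ _ rfl rfl _ v _ rfl).symm

/-- Build an isomorphism of descent data from isomorphisms over the members. -/
noncomputable def mkIso {D D' : SchDDFam f} (e : ∀ i, D.obj i ≅ D'.obj i)
    (h : ∀ ⦃T : Scheme.{u}⦄ ⦃i j : ι⦄ (x₀ : T ⟶ X i) (x₁ : T ⟶ X j) (hx : x₀ ≫ f i = x₁ ≫ f j)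
      (v : Lifts (D.obj i) x₀) (w : Lifts (D'.obj i) x₀), w.1 = v.1 ≫ (e i).hom.left →
      (D'.φ x₀ x₁ hx w).1 = (D.φ x₀ x₁ hx v).1 ≫ (e j).hom.left) : D ≅ D' where
  hom := ⟨fun i ↦ (e i).hom, h⟩
  inv := ⟨fun i ↦ (e i).inv, fun T i j x₀ x₁ hx v w hw ↦ by
    have := h x₀ x₁ hx w v (by rw [hw, Category.assoc, ← Over.comp_left, Iso.inv_hom_id]; simp)
    rw [this, Category.assoc, ← Over.comp_left, Iso.hom_inv_id]
    simp⟩
  hom_inv_id := SchDDFam.hom_ext (funext fun i ↦ (e i).hom_inv_id)
  inv_hom_id := SchDDFam.hom_ext (funext fun i ↦ (e i).inv_hom_id)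

section comp

variable {S' : Scheme.{u}} {ι' : Type w'} {X' : ι' → Scheme.{u}} {f' : ∀ j, X' j ⟶ S'}
  {α : ι' → ι} {p : S' ⟶ S} {p' : ∀ j, X' j ⟶ X (α j)} (hw : ∀ j, p' j ≫ f (α j) = f' j ≫ p)
  {S'' : Scheme.{u}} {ι'' : Type w''} {X'' : ι'' → Scheme.{u}} {f'' : ∀ k, X'' k ⟶ S''}
  {β : ι'' → ι'} {q : S'' ⟶ S'} {q' : ∀ k, X'' k ⟶ X' (β k)}
  (hw' : ∀ k, q' k ≫ f' (β k) = f'' k ≫ q)

include hw hw' in
theorem comp_w (k : ι'') : (q' k ≫ p' (β k)) ≫ f (α (β k)) = f'' k ≫ q ≫ p := by
  rw [Category.assoc, hw, ← Category.assoc, hw', Category.assoc]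

/-- Pullback along a composite morphism of families. -/
noncomputable def compIso : pullDDFam hw ⋙ pullDDFam hw' ≅
    pullDDFam (f := f) (f' := f'') (α := fun k ↦ α (β k)) (p := q ≫ p)
      (p' := fun k ↦ q' k ≫ p' (β k)) (comp_w hw hw') :=
  NatIso.ofComponents
    (fun D ↦ mkIso
      (fun k ↦ Over.isoMk (pullbackLeftPullbackSndIso (D.obj (α (β k))).hom (p' (β k)) (q' k))
        (pullbackLeftPullbackSndIso_hom_snd _ _ _))
      (fun T i j x₀ x₁ hx v v' hv ↦ by
        simp only [Over.isoMk_hom_left] at hv ⊢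
        dsimp [pullDDFam, pullDDFamObj]
        apply pullback.hom_ext
        · simp only [liftsPullbackEquiv, Equiv.coe_fn_mk, Equiv.coe_fn_symm_mk,
            Category.assoc, pullbackLeftPullbackSndIso_hom_fst, pullback.lift_fst,
            pullback.lift_fst_assoc]
          erw [pullback.lift_fst_assoc, pullback.lift_fst]
          refine φ_congr D _ _ (Category.assoc _ _ _).symm (Category.assoc _ _ _).symm _ _ ?_
          dsimp [pullDDFam, pullDDFamObj] at hv
          simp [hv]
        · simp [liftsPullbackEquiv]))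
    (fun a ↦ by
      apply SchDDFam.hom_ext
      funext k
      apply Over.OverMorphism.ext
      simp only [mkIso, SchDDFam.comp_hom, Over.comp_left, Over.isoMk_hom_left]
      dsimp [pullDDFam, pullDDFamObj]
      apply pullback.hom_ext <;> simp)

end comp

section id

/-- Pullback along the identity morphism of families. -/
noncomputable def idIso : pullDDFam (f := f) (f' := f) (α := fun i ↦ i) (p := 𝟙 S)
    (p' := fun i ↦ 𝟙 (X i)) (fun i ↦ by simp) ≅ 𝟭 (SchDDFam f) :=
  NatIso.ofComponents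
    (fun D ↦ mkIso
      (fun i ↦ Over.isoMk (asIso (pullback.fst (D.obj i).hom (𝟙 (X i))))
        (by simp [pullDDFam, pullDDFamObj, pullback.condition]))
      (fun T i j x₀ x₁ hx v v' hv ↦ by
        simp only [Over.isoMk_hom_left] at hv ⊢
        dsimp [pullDDFam, pullDDFamObj]
        simp only [liftsPullbackEquiv, Equiv.coe_fn_mk, Equiv.coe_fn_symm_mk, pullback.lift_fst]
        refine φ_congr D _ _ (Category.comp_id _).symm (Category.comp_id _).symm _ _ ?_
        exact hv))
    (fun a ↦ by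
      apply SchDDFam.hom_ext
      funext k
      apply Over.OverMorphism.ext
      simp only [mkIso, SchDDFam.comp_hom, Over.comp_left, Over.isoMk_hom_left]
      dsimp [pullDDFam, pullDDFamObj]
      simp)

end id

section homotopy

variable {S' : Scheme.{u}} {ι' : Type w'} {X' : ι' → Scheme.{u}} {f' : ∀ j, X' j ⟶ S'}
  {α : ι' → ι} {p : S' ⟶ S} {p' : ∀ j, X' j ⟶ X (α j)} (hw : ∀ j, p' j ≫ f (α j) = f' j ≫ p)
  {β : ι' → ι} {q : S' ⟶ S} {q' : ∀ j, X' j ⟶ X (β j)} (hv : ∀ j, q' j ≫ f (β j) = f' j ≫ q)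
  (hpq : p = q)

/-- The point moved from `x ≫ p'` to `x ≫ q'`. -/
noncomputable def move (D : SchDDFam f) (j : ι') :
    pullback (D.obj (α j)).hom (p' j) ⟶ pullback (D.obj (β j)).hom (q' j) :=
  let a := D.φ (pullback.snd (D.obj (α j)).hom (p' j) ≫ p' j)
    (pullback.snd (D.obj (α j)).hom (p' j) ≫ q' j)
    (by rw [Category.assoc, Category.assoc, hw, hv, hpq]) ⟨pullback.fst _ _, pullback.condition⟩
  pullback.lift a.1 (pullback.snd _ _) a.2

@[reassoc (attr := simp)]
theorem move_snd (D : SchDDFam f) (j : ι') :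
    move hw hv hpq D j ≫ pullback.snd _ _ = pullback.snd _ _ := pullback.lift_snd _ _ _

/-- Value of `move` on points. -/
theorem comp_move_fst (D : SchDDFam f) (j : ι') {T : Scheme.{u}}
    (z : T ⟶ pullback (D.obj (α j)).hom (p' j)) (x : T ⟶ X' j)
    (hz : z ≫ pullback.snd _ _ = x) :
    z ≫ move hw hv hpq D j ≫ pullback.fst _ _ =
      (D.φ (x ≫ p' j) (x ≫ q' j) (by rw [Category.assoc, Category.assoc, hw, hv, hpq])
        ⟨z ≫ pullback.fst _ _, by rw [Category.assoc, pullback.condition, reassoc_of% hz]⟩).1 := by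
  subst hz
  rw [move, pullback.lift_fst, comp_φ]
  exact φ_congr D _ _ (Category.assoc _ _ _).symm (Category.assoc _ _ _).symm _ _ rfl

theorem move_move (D : SchDDFam f) (j : ι') :
    move hw hv hpq D j ≫ move hv hw hpq.symm D j = 𝟙 _ := by
  apply pullback.hom_ext
  · rw [Category.assoc, comp_move_fst hv hw hpq.symm D j _ (pullback.snd _ _) (move_snd hw hv hpq D j),
      Category.id_comp]
    have e : (⟨move hw hv hpq D j ≫ pullback.fst _ _, by
        rw [Category.assoc, pullback.condition, move_snd_assoc]⟩ :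
        Lifts (D.obj (β j)) (pullback.snd (D.obj (α j)).hom (p' j) ≫ q' j)) =
        D.φ (pullback.snd (D.obj (α j)).hom (p' j) ≫ p' j) (pullback.snd _ _ ≫ q' j)
          (by rw [Category.assoc, Category.assoc, hw, hv, hpq])
          ⟨pullback.fst _ _, pullback.condition⟩ := by
      apply Subtype.ext
      simp [move]
    rw [e, D.φ_comp, D.φ_self]
  · simp

/-- `move` as an isomorphism. -/
@[simps]
noncomputable def moveIso (D : SchDDFam f) (j : ι') :
    pullback (D.obj (α j)).hom (p' j) ≅ pullback (D.obj (β j)).hom (q' j) where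
  hom := move hw hv hpq D j
  inv := move hv hw hpq.symm D j
  hom_inv_id := move_move hw hv hpq D j
  inv_hom_id := move_move hv hw hpq.symm D j

/-- Pullback of descent data along a morphism of families only depends on the morphism of bases. -/
noncomputable def homotopyIso : pullDDFam hw ≅ pullDDFam hv :=
  NatIso.ofComponents
    (fun D ↦ mkIso (fun j ↦ Over.isoMk (moveIso hw hv hpq D j) (move_snd hw hv hpq D j))
      (fun T i j x₀ x₁ hx v v' hv' ↦ by
        simp only [Over.isoMk_hom_left] at hv' ⊢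
        dsimp [pullDDFam, pullDDFamObj] at hv' ⊢
        apply pullback.hom_ext
        · simp only [liftsPullbackEquiv, Equiv.coe_fn_mk, Equiv.coe_fn_symm_mk, pullback.lift_fst,
            Category.assoc]
          simp only [moveIso_hom] at hv' ⊢
          erw [comp_move_fst hw hv hpq D j _ x₁ (pullback.lift_snd _ _ _)]
          have e0 : liftsPullbackEquiv (D.obj (β i)) (q' i) x₀ v' =
              D.φ (x₀ ≫ p' i) (x₀ ≫ q' i)
                (by rw [Category.assoc, Category.assoc, hw, hv, hpq])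
                (liftsPullbackEquiv (D.obj (α i)) (p' i) x₀ v) := by
            apply Subtype.ext
            show v'.1 ≫ pullback.fst _ _ = _
            erw [hv', Category.assoc, comp_move_fst hw hv hpq D i v.1 x₀ v.2]
            rfl
          refine Eq.trans (congrArg (fun u ↦ (D.φ _ _ _ u).1) e0) ?_
          exact ((congrArg Subtype.val (D.φ_comp _ _ _ _ _ _)).trans
            (congrArg Subtype.val (D.φ_comp (x₀ ≫ p' i) (x₁ ≫ p' j) (x₁ ≫ q' j) _
              (by rw [Category.assoc, Category.assoc, hw, hv, hpq]) _)).symm).trans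
            (φ_congr D _ _ rfl rfl _ _ (pullback.lift_fst _ _ _).symm)
        · simp [liftsPullbackEquiv]))
    (fun {D D'} a ↦ by
      apply SchDDFam.hom_ext
      funext j
      apply Over.OverMorphism.ext
      simp only [mkIso, SchDDFam.comp_hom, Over.comp_left, Over.isoMk_hom_left]
      dsimp [pullDDFam, pullDDFamObj]
      apply pullback.hom_ext
      · simp only [Category.assoc, pullback.lift_fst]
        simp only [moveIso_hom, Over.homMk_left]
        erw [comp_move_fst hw hv hpq D' j _ (pullback.snd _ _) (by simp)]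
        have h2 := comp_move_fst hw hv hpq D j (𝟙 _) (pullback.snd _ _) (Category.id_comp _)
        rw [Category.id_comp] at h2
        have h3 : pullback.map (D.obj (β j)).hom (q' j) (D'.obj (β j)).hom (q' j)
            (a.hom (β j)).left (𝟙 _) (𝟙 _) (by simp [Over.w]) (by simp) ≫ pullback.fst _ _ =
            pullback.fst _ _ ≫ (a.hom (β j)).left := pullback.lift_fst _ _ _
        refine Eq.trans ?_ (congrArg (move hw hv hpq D j ≫ ·) h3).symm
        show _ = move hw hv hpq D j ≫ pullback.fst _ _ ≫ _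
        refine Eq.trans ?_ ((congrArg (· ≫ (a.hom (β j)).left) h2).symm.trans (Category.assoc _ _ _))
        refine a.comm _ _ _ _ _ ?_
        simp
      · simp)

end homotopy

/-- A morphism of families with a backwards morphism induces an equivalence. -/
theorem isEquivalence_of_back {ι' : Type w'} {X' : ι' → Scheme.{u}} {f' : ∀ j, X' j ⟶ S}
    {α : ι' → ι} {p' : ∀ j, X' j ⟶ X (α j)} (hw : ∀ j, p' j ≫ f (α j) = f' j ≫ 𝟙 S)
    {β : ι → ι'} {q' : ∀ i, X i ⟶ X' (β i)} (hv : ∀ i, q' i ≫ f' (β i) = f i ≫ 𝟙 S) :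
    (pullDDFam hw).IsEquivalence :=
  (CategoryTheory.Equivalence.mk (pullDDFam hw) (pullDDFam hv)
    ((compIso hw hv) ≪≫ homotopyIso _ (fun i ↦ by simp) (by simp) ≪≫ idIso).symm
    ((compIso hv hw) ≪≫ homotopyIso _ (fun i ↦ by simp) (by simp) ≪≫ idIso)).isEquivalence_functor

end Groth.Agent.Lib.DescAlg.DDFam.Basic
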