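import Groth.Agent.Lib.DescAlg.DDFam.Basic
import Mathlib.AlgebraicGeometry.Sites.Fpqc

/-!
Full faithfulness of pullback of descent data along a refinement which is fibrewise a cover.
-/

set_option autoImplicit false
set_option backward.isDefEq.respectTransparency false
set_option backward.isDefEq.respectTransparency.types false

universe w' w u

open CategoryTheory CategoryTheory.Limits AlgebraicGeometry Desc

namespace Groth.Agent.Lib.DescAlg.DDFam.FullFaithful

open Groth.Agent.Lib.DescAlg.DDFam.Basic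

variable {S : Scheme.{u}} {ι : Type w} {X : ι → Scheme.{u}} {f : ∀ i, X i ⟶ S}
  {ι' : Type w'} {X' : ι' → Scheme.{u}} {f' : ∀ j, X' j ⟶ S}
  {α : ι' → ι} {g : ∀ i, X' i ⟶ X (α i)}

/-- Morphisms to schemes are determined on the pieces of the pullback of the fibres of `g`. -/
def JointlyEpi (X : ι → Scheme.{u}) (g : ∀ i, X' i ⟶ X (α i)) : Prop :=
  ∀ (j : ι) ⦃Y : Scheme.{u}⦄ (h : Y ⟶ X j) ⦃Z : Scheme.{u}⦄ (a b : Y ⟶ Z),
    (∀ ⦃T : Scheme.{u}⦄ (y : T ⟶ Y) (i : ι') (e : α i = j) (v : T ⟶ X' i),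
      y ≫ h = v ≫ g i ≫ eqToHom (congrArg X e) → y ≫ a = y ≫ b) → a = b

/-- Morphisms to schemes glue along the pullback of the fibres of `g`. -/
def Glue (X : ι → Scheme.{u}) (g : ∀ i, X' i ⟶ X (α i)) : Prop :=
  ∀ (j : ι) ⦃Y : Scheme.{u}⦄ (h : Y ⟶ X j) ⦃Z : Scheme.{u}⦄
    (x : ∀ i (e : α i = j), pullback h (g i ≫ eqToHom (congrArg X e)) ⟶ Z),
    (∀ ⦃T : Scheme.{u}⦄ i (e : α i = j) k (e' : α k = j)
      (a : T ⟶ pullback h (g i ≫ eqToHom (congrArg X e)))
      (b : T ⟶ pullback h (g k ≫ eqToHom (congrArg X e'))),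
      a ≫ pullback.fst _ _ = b ≫ pullback.fst _ _ → a ≫ x i e = b ≫ x k e') →
    ∃ l : Y ⟶ Z, ∀ i e, pullback.fst h (g i ≫ eqToHom (congrArg X e)) ≫ l = x i e

variable (hw : ∀ i, g i ≫ f (α i) = f' i ≫ 𝟙 S)

theorem faithful (hepi : JointlyEpi X g) : (pullDDFam hw).Faithful := by
  refine ⟨fun {D D'} a b hab ↦ ?_⟩
  apply SchDDFam.hom_ext
  funext j
  apply Over.OverMorphism.ext
  refine hepi j (D.obj j).hom _ _ fun T y i e v hy ↦ ?_
  subst e
  have hy' : y ≫ (D.obj (α i)).hom = v ≫ g i := by simpa using hy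
  have h := congrArg (fun c : (pullDDFam hw).obj D ⟶ (pullDDFam hw).obj D' ↦
    pullback.lift y v hy' ≫ (c.hom i).left ≫ pullback.fst _ _) hab
  simpa [pullDDFam, pullDDFamObj] using h

section pt

variable {D D' : SchDDFam f} (b : (pullDDFam hw).obj D ⟶ (pullDDFam hw).obj D')
  {T : Scheme.{u}} {j : ι} {x : T ⟶ X j} (y : Lifts (D.obj j) x) (i : ι') (v : T ⟶ X' i)

include hw in
theorem cond (h : v ≫ f' i = x ≫ f j) : x ≫ f j = (v ≫ g i) ≫ f (α i) := by
  simp [hw, h]

/-- The point of `D'` over `x` obtained from a morphism `b` of pulled back data, using the point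
`v` of `X' i` with the same image in `S` as `x`. -/
noncomputable def pt (h : v ≫ f' i = x ≫ f j) : Lifts (D'.obj j) x :=
  D'.φ (v ≫ g i) x (cond hw i v h).symm
    (liftsPullbackEquiv (D'.obj (α i)) (g i) v
      (SchDDFam.Hom.push b
        ((liftsPullbackEquiv (D.obj (α i)) (g i) v).symm (D.φ x (v ≫ g i) (cond hw i v h) y))))

theorem pt_natural (h : v ≫ f' i = x ≫ f j) {T' : Scheme.{u}} (c : T' ⟶ T) {x' : T' ⟶ X j}
    (hx' : c ≫ x = x') (y' : Lifts (D.obj j) x') (hy' : y'.1 = c ≫ y.1) {v' : T' ⟶ X' i}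
    (hv' : c ≫ v = v') :
    (pt hw b y' i v' (by rw [← hx', ← hv', Category.assoc, h, Category.assoc])).1 =
      c ≫ (pt hw b y i v h).1 := by
  subst hx' hv'
  refine D'.φ_natural c _ _ _ _ _ (Category.assoc _ _ _).symm rfl _ _ _ ?_
  simp only [liftsPullbackEquiv, Equiv.coe_fn_mk, Equiv.coe_fn_symm_mk, SchDDFam.Hom.push]
  refine Eq.trans ?_ (Category.assoc _ _ _)
  congr 1
  refine Eq.trans ?_ (Category.assoc _ _ _)
  congr 1
  apply pullback.hom_ext
  · simp only [Category.assoc, pullback.lift_fst]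
    exact D.φ_natural c _ _ _ _ _ rfl (Category.assoc _ _ _).symm _ _ _ hy'
  · simp

theorem pt_eq (h : v ≫ f' i = x ≫ f j) (k : ι') (v' : T ⟶ X' k) (h' : v' ≫ f' k = x ≫ f j) :
    pt hw b y i v h = pt hw b y k v' h' := by
  have hvv : v ≫ f' i = v' ≫ f' k := h.trans h'.symm
  have hφ : ∀ (E : SchDDFam f) (z : Lifts (((pullDDFam hw).obj E).obj i) v),
      liftsPullbackEquiv (E.obj (α k)) (g k) v' (((pullDDFam hw).obj E).φ v v' hvv z) =
        E.φ (v ≫ g i) (v' ≫ g k) (pull_compat hw v v' hvv)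
          (liftsPullbackEquiv (E.obj (α i)) (g i) v z) := fun E z ↦ by
    simp [pullDDFam, pullDDFamObj]
  have key : D'.φ (v ≫ g i) (v' ≫ g k) (pull_compat hw v v' hvv)
      (liftsPullbackEquiv (D'.obj (α i)) (g i) v
        (SchDDFam.Hom.push b
          ((liftsPullbackEquiv (D.obj (α i)) (g i) v).symm (D.φ x (v ≫ g i) (cond hw i v h) y)))) =
      liftsPullbackEquiv (D'.obj (α k)) (g k) v'
        (SchDDFam.Hom.push b
          ((liftsPullbackEquiv (D.obj (α k)) (g k) v').symm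
            (D.φ x (v' ≫ g k) (cond hw k v' h') y))) := by
    rw [← hφ D']
    congr 1
    apply Subtype.ext
    refine (b.comm v v' hvv _ _ rfl).trans (congrArg (· ≫ (b.hom k).left) (congrArg Subtype.val ?_))
    apply (liftsPullbackEquiv (D.obj (α k)) (g k) v').injective
    rw [hφ D]
    erw [Equiv.apply_symm_apply, Equiv.apply_symm_apply, D.φ_comp]
  rw [pt, pt, ← key, D'.φ_comp]

theorem pt_φ (h : v ≫ f' i = x ≫ f j) {j' : ι} {x' : T ⟶ X j'} (hx : x ≫ f j = x' ≫ f j') :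
    pt hw b (D.φ x x' hx y) i v (h.trans hx) = D'.φ x x' hx (pt hw b y i v h) := by
  simp only [pt, D.φ_comp, D'.φ_comp]

end pt

theorem full (hepi : JointlyEpi X g) (hglue : Glue X g) : (pullDDFam hw).Full := by
  refine ⟨fun {D D'} b ↦ ?_⟩
  have aux : ∀ j i (e : α i = j),
      pullback.snd (D.obj j).hom (g i ≫ eqToHom (congrArg X e)) ≫ f' i =
        (pullback.fst (D.obj j).hom (g i ≫ eqToHom (congrArg X e)) ≫ (D.obj j).hom) ≫ f j := by
    intro j i e
    subst e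
    rw [pullback.condition]
    simp [hw]
  have hgl : ∀ j, ∃ l : (D.obj j).left ⟶ (D'.obj j).left, ∀ i e,
      pullback.fst (D.obj j).hom (g i ≫ eqToHom (congrArg X e)) ≫ l =
        (pt hw b (x := pullback.fst _ _ ≫ (D.obj j).hom)
          ⟨pullback.fst (D.obj j).hom (g i ≫ eqToHom (congrArg X e)), rfl⟩ i (pullback.snd _ _)
          (aux j i e)).1 := by
    intro j
    refine hglue j _ _ fun T i e k e' a a' haa' ↦ ?_
    rw [← pt_natural hw b _ i _ _ a rfl ⟨a ≫ pullback.fst _ _, Category.assoc _ _ _⟩ rfl rfl,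
      ← pt_natural hw b _ k _ _ a' (x' := a ≫ pullback.fst _ _ ≫ (D.obj j).hom)
        (by rw [← Category.assoc, ← haa', Category.assoc])
        ⟨a ≫ pullback.fst _ _, Category.assoc _ _ _⟩ haa' rfl]
    exact congrArg Subtype.val (pt_eq hw b _ i _ _ k _ _)
  choose l hl using hgl
  have spec : ∀ ⦃T : Scheme.{u}⦄ ⦃j : ι⦄ ⦃x : T ⟶ X j⦄ (y : Lifts (D.obj j) x) (i : ι')
      (v : T ⟶ X' i) (h : v ≫ f' i = x ≫ f j), y.1 ≫ l j = (pt hw b y i v h).1 := by
    intro T j x y i v h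
    refine hepi j x _ _ fun T' c k e u hu ↦ ?_
    have hc : (c ≫ y.1) ≫ (D.obj j).hom = u ≫ g k ≫ eqToHom (congrArg X e) := by
      rw [Category.assoc, y.2, hu]
    have h1 : c ≫ y.1 ≫ l j = pullback.lift (c ≫ y.1) u hc ≫ pullback.fst _ _ ≫ l j := by simp
    rw [h1, hl j k e, ← pt_natural hw b y i v h c rfl ⟨c ≫ y.1, by rw [Category.assoc, y.2]⟩ rfl rfl,
      ← pt_natural hw b _ k _ _ (pullback.lift (c ≫ y.1) u hc) (x' := c ≫ x) (by simp [y.2])
        ⟨c ≫ y.1, by rw [Category.assoc, y.2]⟩ (by simp) (pullback.lift_snd _ _ _)]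
    exact congrArg Subtype.val (pt_eq hw b _ k _ _ i _ _)
  have hl' : ∀ j, l j ≫ (D'.obj j).hom = (D.obj j).hom := by
    intro j
    refine hepi j (D.obj j).hom _ _ fun T c i e u hu ↦ ?_
    have hcu : u ≫ f' i = (c ≫ (D.obj j).hom) ≫ f j := by
      subst e
      rw [hu]
      simp [hw]
    rw [← Category.assoc, spec ⟨c, rfl⟩ i u hcu]
    exact (pt hw b _ i u hcu).2
  refine ⟨⟨fun j ↦ Over.homMk (l j) (hl' j), fun T j j' x₀ x₁ hx y z hz ↦ ?_⟩, ?_⟩
  · refine hepi j' x₁ _ _ fun T' c i e u hu ↦ ?_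
    have hcu : u ≫ f' i = (c ≫ x₁) ≫ f j' := by
      subst e
      rw [hu]
      simp [hw]
    have hcx : (c ≫ x₀) ≫ f j = (c ≫ x₁) ≫ f j' := by simp [hx]
    have hy : (⟨c ≫ z.1, by rw [Category.assoc, z.2]⟩ : Lifts (D'.obj j) (c ≫ x₀)) =
        pt hw b ⟨c ≫ y.1, by rw [Category.assoc, y.2]⟩ i u (hcu.trans hcx.symm) := by
      apply Subtype.ext
      refine Eq.trans ?_ (spec ⟨c ≫ y.1, by rw [Category.assoc, y.2]⟩ i u (hcu.trans hcx.symm))
      simp [hz]
    show c ≫ _ = c ≫ (D.φ x₀ x₁ hx y).1 ≫ l j'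
    rw [comp_φ, hy, ← pt_φ hw b _ i u (hcu.trans hcx.symm) hcx]
    refine Eq.trans (spec _ i u _).symm ?_
    exact ((Category.assoc _ _ _).symm.trans (congrArg (· ≫ l j') (comp_φ D c x₀ x₁ hx y))).symm
  · apply SchDDFam.hom_ext
    funext i
    apply Over.OverMorphism.ext
    apply pullback.hom_ext
    · have h := spec (x := pullback.snd (D.obj (α i)).hom (g i) ≫ g i)
        ⟨pullback.fst _ _, pullback.condition⟩ i (pullback.snd _ _) (by simp [hw])
      simp only [pt, D'.φ_self, D.φ_self] at h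
      simp only [pullDDFam, Over.homMk_left, pullback.lift_fst, Category.assoc]
      erw [h]
      simp only [liftsPullbackEquiv, Equiv.coe_fn_mk, Equiv.coe_fn_symm_mk, SchDDFam.Hom.push,
        Category.assoc]
      rw [← Category.id_comp ((b.hom i).left ≫ pullback.fst _ _)]
      congr 1
      apply pullback.hom_ext
      · exact (pullback.lift_fst _ _ _).trans (Category.id_comp _).symm
      · exact (pullback.lift_snd _ _ _).trans (Category.id_comp _).symm
    · have := Over.w (b.hom i)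
      dsimp [pullDDFam, pullDDFamObj] at this ⊢
      simp [this]

end Groth.Agent.Lib.DescAlg.DDFam.FullFaithful
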